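import Mathlib

/-!
Subgroups of order eleven: lifting centralisers and normalisers through central extensions, Sylow's congruence,
and splitting off a central factor from a normaliser.
-/

set_option autoImplicit false
set_option linter.unusedSectionVars false

namespace Cfsg.Lib.ElevenNorm

open Subgroup
open scoped Pointwise

variable {G : Type*} [Group G]

theorem exists_gen [Finite G] {X : Subgroup G} (hX : Nat.card X = 11) : ∃ x, orderOf x = 11 ∧ X = zpowers x := by
  haveI : Fact (Nat.Prime 11) := ⟨by norm_num⟩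
  haveI : Nontrivial X := Finite.one_lt_card_iff_nontrivial.1 (by omega)
  obtain ⟨⟨x, hx⟩, hne⟩ := exists_ne (1 : X)
  have ho : orderOf x = 11 := by
    have h := Subgroup.orderOf_dvd_natCard X hx
    rw [hX] at h
    exact ((Nat.dvd_prime Fact.out).1 h).resolve_left fun h1 => hne (Subtype.ext (orderOf_eq_one_iff.1 h1))
  exact ⟨x, ho, (eq_of_le_of_card_ge ((zpowers_le).2 hx) (by rw [Nat.card_zpowers, ho, hX])).symm⟩

theorem centralizer_zpowers (x : G) : centralizer ((zpowers x : Subgroup G) : Set G) = centralizer ({x} : Set G) := by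
  rw [zpowers_eq_closure, centralizer_closure]

theorem mem_normalizer_zpowers [Finite G] {x g : G} :
    g ∈ normalizer ((zpowers x : Subgroup G) : Set G) ↔ g * x * g⁻¹ ∈ zpowers x := by
  constructor
  · intro hg
    exact (mem_normalizer_iff.1 hg x).1 (mem_zpowers x)
  · intro hg
    refine mem_normalizer_fintype fun t ht => ?_
    obtain ⟨j, rfl⟩ := mem_zpowers_iff.1 ht
    show g * x ^ j * g⁻¹ ∈ zpowers x
    rw [← conj_zpow]
    exact zpow_mem hg j

theorem inf_subgroupOf_inf (K T U : Subgroup G) :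
    (K ⊓ (T ⊓ U)).subgroupOf K = T.subgroupOf K ⊓ (K ⊓ U).subgroupOf K := by
  ext k
  simp [mem_subgroupOf]

theorem card_ker_mul {Q : Type*} [Group Q] [Finite G] (f : G →* Q) (hf : Function.Surjective f) (S : Subgroup Q) :
    Nat.card (S.comap f) = Nat.card f.ker * Nat.card S := by
  have hQ : Finite Q := Finite.of_surjective f hf
  have h1 := (S.comap f).card_mul_index
  rw [index_comap_of_surjective S hf, ← f.ker.card_mul_index, index_ker, MonoidHom.range_eq_top.2 hf, card_top,
    ← S.card_mul_index, ← mul_assoc] at h1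
  exact Nat.eq_of_mul_eq_mul_right (Nat.pos_of_ne_zero S.index_ne_zero_of_finite) h1

/-- Two conjugate elements of order eleven congruent modulo the kernel are equal. -/
theorem eq_pow_of_image {K Q : Type*} [Group K] [Finite K] [Group Q] (f : K →* Q) (hker : f.ker ≤ center K)
    (hk : ¬ 11 ∣ Nat.card f.ker) {y : K} (hy11 : y ^ 11 = 1) (k : K) (j : ℤ)
    (he : f (k * y * k⁻¹) = f (y ^ j)) : k * y * k⁻¹ = y ^ j := by
  haveI : Fact (Nat.Prime 11) := ⟨by norm_num⟩
  set z : K := (y ^ j)⁻¹ * (k * y * k⁻¹) with hz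
  have hzk : z ∈ f.ker := by rw [MonoidHom.mem_ker, hz, map_mul, map_inv, he, inv_mul_cancel]
  have hzc : Commute (y ^ j) z := mem_center_iff.1 (hker hzk) _
  have h11 : z ^ 11 = 1 := by
    have h1 : (y ^ j * z) ^ 11 = 1 := by rw [hz, mul_inv_cancel_left, conj_pow, hy11, mul_one, mul_inv_cancel]
    rwa [hzc.mul_pow, ← zpow_natCast (y ^ j) 11, ← zpow_mul, mul_comm, zpow_mul, zpow_natCast, hy11, one_zpow,
      one_mul] at h1
  have hz1 : z = 1 := by
    by_contra hne
    have h := f.ker.orderOf_dvd_natCard hzk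
    rw [orderOf_eq_prime h11 hne] at h
    exact hk h
  rw [hz] at hz1
  exact (inv_mul_eq_one.1 hz1).symm

/-- Through a central extension with kernel of order prime to eleven, inside a subgroup `T` which is a full
preimage of `S`. -/
theorem lift_counts_in [Finite G] {Q : Type*} [Group Q] (K : Subgroup G) (f : K →* Q) (hf : Function.Surjective f)
    (hker : f.ker ≤ center K) (hk : ¬ 11 ∣ Nat.card f.ker) {x : G} (hxK : x ∈ K) (hx : orderOf x = 11)
    (T : Subgroup G) (S : Subgroup Q) (hT : S.comap f = T.subgroupOf K) :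
    orderOf (f ⟨x, hxK⟩) = 11 ∧
    Nat.card ↥(K ⊓ (T ⊓ centralizer ({x} : Set G))) =
      Nat.card f.ker * Nat.card ↥(S ⊓ centralizer ({f ⟨x, hxK⟩} : Set Q)) ∧
    Nat.card ↥(K ⊓ (T ⊓ normalizer ((zpowers x : Subgroup G) : Set G))) =
      Nat.card f.ker * Nat.card ↥(S ⊓ normalizer ((zpowers (f ⟨x, hxK⟩) : Subgroup Q) : Set Q)) := by
  haveI : Fact (Nat.Prime 11) := ⟨by norm_num⟩
  have : Finite Q := Finite.of_surjective f hf
  set y : K := ⟨x, hxK⟩
  have hy : orderOf y = 11 := by rw [← Subgroup.orderOf_coe]; exact hx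
  have key : ∀ (k : K) (j : ℤ), f (k * y * k⁻¹) = f (y ^ j) → k * y * k⁻¹ = y ^ j :=
    eq_pow_of_image f hker hk (by rw [← hy]; exact pow_orderOf_eq_one y)
  refine ⟨orderOf_eq_prime ?_ ?_, ?_, ?_⟩
  · rw [← map_pow, ← hy, pow_orderOf_eq_one, map_one]
  · intro h
    refine hk ?_
    have h' := f.ker.orderOf_dvd_natCard (x := y) (MonoidHom.mem_ker.2 h)
    rwa [hy] at h'
  · have e : (centralizer ({f y} : Set Q)).comap f = (K ⊓ centralizer ({x} : Set G)).subgroupOf K := by
      ext k
      simp only [mem_comap, mem_centralizer_singleton_iff, mem_subgroupOf, mem_inf, SetLike.coe_mem, true_and]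
      constructor
      · intro h
        have := key k 1 (by rw [zpow_one, map_mul, map_mul, map_inv, h, mul_inv_cancel_right])
        rw [zpow_one, mul_inv_eq_iff_eq_mul] at this
        exact congrArg Subtype.val this
      · intro h
        rw [← map_mul, ← map_mul]
        exact congrArg f (Subtype.ext h)
    rw [← card_ker_mul f hf, comap_inf, hT, e, ← inf_subgroupOf_inf K T,
      Nat.card_congr (subgroupOfEquivOfLe inf_le_left).toEquiv]
  · have e : (normalizer ((zpowers (f y) : Subgroup Q) : Set Q)).comap f =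
        (K ⊓ normalizer ((zpowers x : Subgroup G) : Set G)).subgroupOf K := by
      ext k
      simp only [mem_comap, mem_subgroupOf, mem_inf, SetLike.coe_mem, true_and, mem_normalizer_zpowers,
        mem_zpowers_iff]
      constructor
      · rintro ⟨j, hj⟩
        have := key k j (by rw [map_mul, map_mul, map_inv, map_zpow, hj])
        exact ⟨j, by simpa [y] using (congrArg Subtype.val this).symm⟩
      · rintro ⟨j, hj⟩
        refine ⟨j, ?_⟩
        rw [← map_zpow, ← map_inv, ← map_mul, ← map_mul]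
        exact congrArg f (Subtype.ext (by simpa [y] using hj))
    rw [← card_ker_mul f hf, comap_inf, hT, e, ← inf_subgroupOf_inf K T,
      Nat.card_congr (subgroupOfEquivOfLe inf_le_left).toEquiv]

/-- Through a central extension with kernel of order prime to eleven. -/
theorem lift_counts [Finite G] {Q : Type*} [Group Q] (K : Subgroup G) (f : K →* Q) (hf : Function.Surjective f)
    (hker : f.ker ≤ center K) (hk : ¬ 11 ∣ Nat.card f.ker) {x : G} (hxK : x ∈ K) (hx : orderOf x = 11) :
    orderOf (f ⟨x, hxK⟩) = 11 ∧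
    Nat.card ↥(K ⊓ centralizer ({x} : Set G)) = Nat.card f.ker * Nat.card (centralizer ({f ⟨x, hxK⟩} : Set Q)) ∧
    Nat.card ↥(K ⊓ normalizer ((zpowers x : Subgroup G) : Set G)) =
      Nat.card f.ker * Nat.card (normalizer ((zpowers (f ⟨x, hxK⟩) : Subgroup Q) : Set Q)) := by
  have h := lift_counts_in K f hf hker hk hxK hx ⊤ ⊤ (by ext k; simp [mem_subgroupOf])
  simpa only [top_inf_eq] using h

theorem not_dvd_sq [Finite G] (h : ¬ 121 ∣ Nat.card G) {x : G} (hx : orderOf x = 11) :
    ∃ S : Sylow 11 G, (S : Subgroup G) = zpowers x := by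
  haveI : Fact (Nat.Prime 11) := ⟨by norm_num⟩
  have h11 : 11 ∣ Nat.card G := hx ▸ orderOf_dvd_natCard x
  have hfac : (Nat.card G).factorization 11 = 1 := by
    have h1 : 1 ≤ (Nat.card G).factorization 11 :=
      ((Fact.out : Nat.Prime 11).pow_dvd_iff_le_factorization Nat.card_pos.ne').1 (by simpa using h11)
    have h2 : ¬ 2 ≤ (Nat.card G).factorization 11 := fun h2 =>
      h (by simpa using ((Fact.out : Nat.Prime 11).pow_dvd_iff_le_factorization Nat.card_pos.ne').2 h2)
    omega
  exact ⟨Sylow.ofCard _ (by rw [hfac, pow_one, Nat.card_zpowers, hx]), Sylow.coe_ofCard _ _⟩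

/-- Two subgroups of order eleven are conjugate. -/
theorem conj_of_card [Finite G] (h : ¬ 121 ∣ Nat.card G) (X Y : Subgroup G) (hX : Nat.card X = 11)
    (hY : Nat.card Y = 11) : ∃ g : G, X.map (MulAut.conj g).toMonoidHom = Y := by
  haveI : Fact (Nat.Prime 11) := ⟨by norm_num⟩
  obtain ⟨x, hx, rfl⟩ := exists_gen hX
  obtain ⟨y, hy, rfl⟩ := exists_gen hY
  obtain ⟨S, hS⟩ := not_dvd_sq h hx
  obtain ⟨T, hT⟩ := not_dvd_sq h hy
  obtain ⟨g, hg⟩ := MulAction.exists_smul_eq G S T
  refine ⟨g, ?_⟩
  rw [← hS, ← hT, ← hg, Sylow.coe_subgroup_smul]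
  rfl

/-- The normaliser of a subgroup of order eleven has index one modulo eleven. -/
theorem index_normalizer_mod [Finite G] (h : ¬ 121 ∣ Nat.card G) {x : G} (hx : orderOf x = 11) :
    (normalizer ((zpowers x : Subgroup G) : Set G)).index % 11 = 1 := by
  haveI : Fact (Nat.Prime 11) := ⟨by norm_num⟩
  obtain ⟨S, hS⟩ := not_dvd_sq h hx
  have h1 := card_sylow_modEq_one 11 G
  rw [Nat.ModEq, Sylow.card_eq_index_normalizer S] at h1
  rw [← hS]
  exact h1

/-- The normaliser modulo the centraliser embeds in the automorphisms. -/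
theorem normalizer_eq_mul [Finite G] {x : G} (hx : orderOf x = 11) : ∃ r, r ∣ 10 ∧
    Nat.card (normalizer ((zpowers x : Subgroup G) : Set G)) = Nat.card (centralizer ({x} : Set G)) * r := by
  set P := zpowers x
  refine ⟨P.normalizerMonoidHom.ker.index, ?_, ?_⟩
  · rw [index_ker]
    refine (card_subgroup_dvd_card _).trans (dvd_of_eq ?_)
    haveI : IsCyclic P := ⟨⟨⟨x, mem_zpowers _⟩, fun ⟨z, hz⟩ => by
      obtain ⟨j, rfl⟩ := mem_zpowers_iff.1 hz
      exact mem_zpowers_iff.2 ⟨j, Subtype.ext (by push_cast; rfl)⟩⟩⟩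
    rw [IsCyclic.card_mulAut, Nat.card_zpowers, hx, Nat.totient_prime (by norm_num)]
  · rw [← P.normalizerMonoidHom.ker.card_mul_index, Subgroup.normalizerMonoidHom_ker,
      Nat.card_congr (subgroupOfEquivOfLe (centralizer_le_normalizer (s := (P : Set G)))).toEquiv,
      centralizer_zpowers]

/-- Splitting off a central factor. -/
theorem split_central [Finite G] {x : G} (hx : orderOf x = 11) (E N : Subgroup G) (hEN : E ≤ N) (hxN : x ∈ N)
    (hc : ∀ e ∈ E, ∀ n ∈ N, e * n = n * e) (hE : Nat.Coprime (Nat.card E) 55)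
    (hN : Nat.card N = Nat.card E * 55)
    (hC : Nat.card ↥(N ⊓ centralizer ({x} : Set G)) = Nat.card E * 11) :
    ∃ F : Subgroup G, Nat.card F = 55 ∧ zpowers x ≤ F ∧
      F ⊓ centralizer ((zpowers x : Subgroup G) : Set G) = zpowers x ∧ F ⊓ E = ⊥ ∧
      (∀ a ∈ F, ∀ b ∈ E, a * b = b * a) ∧ F ⊔ E = N := by
  haveI : (E.subgroupOf N).Normal := ⟨fun e he n => by
    rw [show n * e * n⁻¹ = e from Subtype.ext (by
      push_cast
      rw [← hc _ (mem_subgroupOf.1 he) _ n.2, mul_inv_cancel_right])]
    exact he⟩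
  have hcE : Nat.card (E.subgroupOf N) = Nat.card E := Nat.card_congr (subgroupOfEquivOfLe hEN).toEquiv
  have hi : (E.subgroupOf N).index = 55 := by
    have h := (E.subgroupOf N).card_mul_index
    rw [hcE, hN] at h
    exact Nat.eq_of_mul_eq_mul_left Nat.card_pos h
  obtain ⟨H, hH⟩ := exists_right_complement'_of_coprime (N := E.subgroupOf N) (by rw [hcE, hi]; exact hE)
  have hHc : Nat.card H = 55 := by rw [← hi]; exact hH.symm.index_eq_card.symm
  set F := H.map N.subtype with hF
  have hFc : Nat.card F = 55 := by rw [hF, card_map_of_injective N.subtype_injective, hHc]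
  have hFN : F ≤ N := map_subtype_le H
  have hFE : F ⊓ E = ⊥ := inf_eq_bot_of_coprime (by rw [hFc]; exact hE.symm)
  have hxF : x ∈ F := by
    have hm : (⟨x, hxN⟩ : N) ∈ ((E.subgroupOf N : Subgroup N) : Set N) * (H : Set N) := by
      rw [hH.mul_eq]; trivial
    obtain ⟨e, he, f, hf, hef⟩ := Set.mem_mul.1 hm
    have hef' : (e : G) * f = x := congrArg Subtype.val hef
    have hcm : Commute (e : G) f := hc _ (mem_subgroupOf.1 he) _ f.2
    have hf55 : (f : G) ^ 55 = 1 := orderOf_dvd_iff_pow_eq_one.1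
      (hFc ▸ F.orderOf_dvd_natCard (mem_map_of_mem N.subtype hf))
    have he55 : (e : G) ^ 55 = 1 := by
      have hp := hcm.mul_pow 55
      rw [hef', hf55, mul_one, orderOf_dvd_iff_pow_eq_one.1 (show orderOf x ∣ 55 by rw [hx]; norm_num)] at hp
      exact hp.symm
    have he1 : (e : G) = 1 := by
      rw [← orderOf_eq_one_iff]
      exact Nat.eq_one_of_dvd_coprimes hE (E.orderOf_dvd_natCard (mem_subgroupOf.1 he))
        (orderOf_dvd_of_pow_eq_one he55)
    rw [← hef', he1, one_mul]
    exact mem_map_of_mem N.subtype hf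
  refine ⟨F, hFc, zpowers_le.2 hxF, ?_, hFE, fun a ha b hb => (hc b hb a (hFN ha)).symm, ?_⟩
  · rw [centralizer_zpowers]
    symm
    refine eq_of_le_of_card_ge (le_inf (zpowers_le.2 hxF) (zpowers_le.2 (mem_centralizer_singleton_iff.2 rfl))) ?_
    rw [Nat.card_zpowers, hx]
    refine Nat.le_of_dvd (by norm_num) ?_
    have h1 := card_dvd_of_le (inf_le_inf_right (centralizer ({x} : Set G)) hFN)
    have h2 : Nat.card ↥(F ⊓ centralizer ({x} : Set G)) ∣ 55 := hFc ▸ card_dvd_of_le inf_le_left
    rw [hC] at h1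
    exact (Nat.Coprime.coprime_dvd_left h2 hE.symm).dvd_of_dvd_mul_left h1
  · refine eq_of_le_of_card_ge (sup_le hFN hEN) ?_
    refine Nat.le_of_dvd Nat.card_pos ?_
    rw [hN]
    exact hE.mul_dvd_of_dvd_of_dvd (card_dvd_of_le le_sup_right) (hFc ▸ card_dvd_of_le le_sup_left)

theorem commute_conj_of_mem_normalizer [Finite G] {x g e : G}
    (hg : g ∈ normalizer ((zpowers x : Subgroup G) : Set G)) (hxe : Commute x e) : Commute x (g * e * g⁻¹) := by
  obtain ⟨j, hj⟩ := mem_zpowers_iff.1 (mem_normalizer_zpowers.1 (inv_mem hg))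
  rw [inv_inv] at hj
  have h2 : Commute (g⁻¹ * x * g) e := hj ▸ hxe.zpow_left j
  simpa [mul_assoc] using h2.map (MulAut.conj g)

theorem normalizer_le_centralizer_of_unique [Finite G] {D : Set G} (hD : ∀ g : G, ∀ d ∈ D, g * d * g⁻¹ ∈ D)
    {x d : G} (hd : d ∈ D) (hxd : Commute x d) (huniq : ∀ e ∈ D, Commute x e → e = d) :
    normalizer ((zpowers x : Subgroup G) : Set G) ≤ centralizer ({d} : Set G) := by
  intro g hg
  rw [mem_centralizer_singleton_iff]
  exact mul_inv_eq_iff_eq_mul.1 (huniq _ (hD g d hd) (commute_conj_of_mem_normalizer hg hxd))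

theorem centralizer_le_normalizer_zpowers (x : G) :
    centralizer ({x} : Set G) ≤ normalizer ((zpowers x : Subgroup G) : Set G) := by
  rw [← centralizer_zpowers]
  exact centralizer_le_normalizer (s := ((zpowers x : Subgroup G) : Set G))

theorem map_centralizer_singleton {H : Type*} [Group H] (e : G ≃* H) (x : G) :
    (centralizer ({x} : Set G)).map e.toMonoidHom = centralizer ({e x} : Set H) := by
  ext y
  obtain ⟨z, rfl⟩ := e.surjective y
  rw [mem_map_equiv, e.symm_apply_apply, mem_centralizer_singleton_iff, mem_centralizer_singleton_iff,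
    ← map_mul, ← map_mul, e.injective.eq_iff]

theorem map_normalizer_zpowers {H : Type*} [Group H] (e : G ≃* H) (x : G) :
    (normalizer ((zpowers x : Subgroup G) : Set G)).map e.toMonoidHom =
      normalizer ((zpowers (e x) : Subgroup H) : Set H) := by
  rw [map_equiv_normalizer_eq, MonoidHom.map_zpowers]
  rfl

theorem card_closure_insert [Finite G] {a : G} {S : Set G} (ha2 : a * a = 1) (hc : ∀ s ∈ S, Commute a s)
    (ha : a ∉ closure S) : Nat.card (closure (insert a S)) = 2 * Nat.card (closure S) := by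
  set H := closure S
  have hH : ∀ y ∈ H, Commute a y := fun y hy =>
    ((mem_centralizer_singleton_iff.1 ((closure_le (centralizer ({a} : Set G))).2
      (fun s hs => mem_centralizer_singleton_iff.2 (hc s hs).symm.eq) hy)) : y * a = a * y).symm
  let P : Subgroup G :=
    { carrier := {g | g ∈ H ∨ a * g ∈ H}
      one_mem' := Or.inl H.one_mem
      mul_mem' := by
        rintro u v (hu | hu) (hv | hv)
        · exact Or.inl (mul_mem hu hv)
        · refine Or.inr ?_
          rw [← mul_assoc, (hH u hu).eq, mul_assoc]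
          exact mul_mem hu hv
        · refine Or.inr ?_
          rw [← mul_assoc]
          exact mul_mem hu hv
        · refine Or.inl ?_
          have : a * u * (a * v) = u * v := by
            have e : a * u * a = u := by
              have := hH (a * u) hu
              calc a * u * a = a * (a * u) := this.eq.symm
                _ = u := by rw [← mul_assoc, ha2, one_mul]
            rw [← mul_assoc, e]
          rw [← this]
          exact mul_mem hu hv
      inv_mem' := by
        rintro u (hu | hu)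
        · exact Or.inl (inv_mem hu)
        · refine Or.inr ?_
          have h1 := (hH _ (inv_mem hu)).eq
          rw [mul_inv_rev, inv_eq_of_mul_eq_one_right ha2] at h1
          have h2 : a * u⁻¹ = u⁻¹ * a := mul_right_cancel (b := a) (by rw [mul_assoc, h1])
          rw [h2]
          have := inv_mem hu
          rwa [mul_inv_rev, inv_eq_of_mul_eq_one_right ha2] at this }
  have haE : a ∈ closure (insert a S) := subset_closure (Set.mem_insert a S)
  have hE : closure (insert a S) = P := by
    refine le_antisymm ((closure_le _).2 (Set.insert_subset_iff.2 ⟨Or.inr (ha2.symm ▸ H.one_mem),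
      fun s hs => Or.inl (subset_closure hs)⟩)) ?_
    rintro g (hg | hg)
    · exact closure_mono (Set.subset_insert a S) hg
    · rw [show g = a * (a * g) by rw [← mul_assoc, ha2, one_mul]]
      exact mul_mem haE (closure_mono (Set.subset_insert a S) hg)
  have e : Fin 2 × H ≃ P := Equiv.ofBijective (fun p => if p.1 = 0 then ⟨p.2, Or.inl p.2.2⟩ else
      ⟨a * p.2, Or.inr (by rw [← mul_assoc, ha2, one_mul]; exact p.2.2)⟩) ⟨?_, ?_⟩
  · rw [hE, ← Nat.card_congr e, Nat.card_prod, Nat.card_fin]
  · rintro ⟨i, u, hu⟩ ⟨j, v, hv⟩ h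
    fin_cases i <;> fin_cases j <;> simp at h ⊢
    · exact h
    · exact ha ((show a = u * v⁻¹ by rw [h, mul_inv_cancel_right]) ▸ mul_mem hu (inv_mem hv))
    · exact ha ((show a = v * u⁻¹ by rw [← h, mul_inv_cancel_right]) ▸ mul_mem hv (inv_mem hu))
    · exact h
  · rintro ⟨g, hg | hg⟩
    · exact ⟨(0, ⟨g, hg⟩), rfl⟩
    · refine ⟨(1, ⟨a * g, hg⟩), Subtype.ext ?_⟩
      simp [← mul_assoc, ha2]

theorem card_closure_pair [Finite G] {a b : G} (ha : orderOf a = 2) (hb : orderOf b = 2) (hne : a ≠ b)
    (hc : Commute a b) : Nat.card (closure ({a, b} : Set G)) = 4 := by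
  have ha2 : a * a = 1 := by rw [← sq, ← ha]; exact pow_orderOf_eq_one a
  rw [card_closure_insert ha2 (fun s hs => by rw [Set.mem_singleton_iff] at hs; exact hs ▸ hc) ?_,
    ← zpowers_eq_closure, Nat.card_zpowers, hb]
  rw [← zpowers_eq_closure]
  intro h
  have hle := zpowers_le.2 h
  have := eq_of_le_of_card_ge hle (by rw [Nat.card_zpowers, Nat.card_zpowers, ha, hb])
  obtain ⟨j, hj⟩ := mem_zpowers_iff.1 (this ▸ mem_zpowers b : b ∈ zpowers a)
  rcases Int.even_or_odd j with ⟨k, rfl⟩ | ⟨k, rfl⟩
  · rw [← two_mul, zpow_mul, zpow_two, ha2, one_zpow] at hj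
    rw [← hj, orderOf_one] at hb
    norm_num at hb
  · rw [zpow_add, zpow_mul, zpow_two, ha2, one_zpow, one_mul, zpow_one] at hj
    exact hne hj

end Cfsg.Lib.ElevenNorm

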