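import Cfsg.Agent.Known.MinIndexSU.Eleven
import Cfsg.Agent.ThreeTransposition.Primitive
import Cfsg.Agent.ThreeTransposition.RankThree
import Cfsg.Agent.ThreeTransposition.ElevenNorm.Basic

/-!
Members of a class of 3-transpositions fixed by an element of order eleven.
-/

set_option autoImplicit false
set_option linter.unusedSectionVars false

namespace Cfsg.Lib.ElevenNorm

open Cfsg Subgroup Cfsg.Lib.ThreeTr

universe u

variable {G : Type u} [Group G] [Finite G] {D : Set G} {x : G}

theorem ncard_fixed_mod (S : Set G) (hinv : ∀ y ∈ S, x * y * x⁻¹ ∈ S) (hx : orderOf x = 11) :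
    ({y : G | y ∈ S ∧ Commute x y}).ncard % 11 = S.ncard % 11 := by
  classical
  have := Fintype.ofFinite ↥S
  let f : S → S := fun y => ⟨x * y * x⁻¹, hinv y y.2⟩
  have hf : Function.Injective f := fun a b h => Subtype.ext (by
    have := congrArg Subtype.val h
    simpa [f] using this)
  let σ : Equiv.Perm S := Equiv.ofBijective f (Finite.injective_iff_bijective.1 hf)
  have hσ : ∀ (j : ℕ) (y : S), ((σ ^ j) y : G) = x ^ j * y * (x ^ j)⁻¹ := by
    intro j
    induction j with
    | zero => intro y; simp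
    | succ j ih =>
      intro y
      rw [pow_succ', Equiv.Perm.mul_apply]
      show x * ((σ ^ j) y : G) * x⁻¹ = _
      rw [ih, pow_succ']
      group
  have h11 : x ^ 11 = 1 := by rw [← hx]; exact pow_orderOf_eq_one x
  have h := Cfsg.Lib.Known.MinIndexSU.modEq_fixed σ (Equiv.ext fun y => Subtype.ext (by rw [hσ, h11]; simp))
  rw [Nat.ModEq, ← Nat.card_eq_fintype_card] at h
  rw [← Nat.card_coe_set_eq S, ← h, ← Nat.card_coe_set_eq, ← Fintype.card_subtype, ← Nat.card_eq_fintype_card]
  congr 1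
  refine Nat.card_congr
    { toFun := fun y => ⟨⟨y.1, y.2.1⟩, Subtype.ext (by
        show x * y.1 * x⁻¹ = y.1
        rw [y.2.2.eq, mul_inv_cancel_right])⟩
      invFun := fun y => ⟨y.1.1, y.1.2, mul_inv_eq_iff_eq_mul.1 (congrArg Subtype.val y.2)⟩
      left_inv := fun _ => rfl
      right_inv := fun _ => rfl }

theorem conj_mem_perp (hD : IsThreeTranspositionClass D) {d : G} (hxd : Commute x d) :
    ∀ y ∈ perp D d, x * y * x⁻¹ ∈ perp D d := by
  rintro y ⟨hy, hne, hc⟩
  have e : x * d * x⁻¹ = d := by rw [hxd.eq, mul_inv_cancel_right]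
  refine ⟨conj_mem hD x hy, fun h => hne ?_, ?_⟩
  · exact mul_left_cancel (mul_right_cancel (h.trans e.symm))
  · rw [← e]
    exact (conj_commute_iff x d y).2 hc

theorem exists_fixed (hD : IsThreeTranspositionClass D) (hm : D.ncard % 11 ≠ 0) (hx : orderOf x = 11) :
    ∃ d ∈ D, Commute x d := by
  obtain ⟨d, hd⟩ := Set.nonempty_of_ncard_ne_zero (s := {y : G | y ∈ D ∧ Commute x y}) fun h => hm (by
    rw [← ncard_fixed_mod D (fun y hy => conj_mem hD x hy) hx, h])
  exact ⟨d, hd.1, hd.2⟩

end Cfsg.Lib.ElevenNorm
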