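import Cfsg.Agent.Known.MinIndexSU.Eleven
import Cfsg.Agent.ThreeTransposition.ElevenNorm.Basic

/-!
Elements of order eleven in the simple unitary group of dimension six over four elements: the centraliser has order
eleven, the normaliser fifty-five.
-/

set_option autoImplicit false
set_option linter.unusedSectionVars false

namespace Cfsg.Lib.ElevenNorm

open Cfsg.Lib.Classical Subgroup

theorem psu_eleven {F : Type*} [Field F] [Finite F] {V : Type*} [AddCommGroup V] [Module F V] [FiniteDimensional F V]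
    {H : HermSpace F V} (hF : Nat.card F = 4) (hd : Module.finrank F V = 6) {Q : Type*} [Group Q] [Finite Q]
    (π : H.SIsom →* Q) (hsurj : Function.Surjective π) (hker : π.ker ≤ center H.SIsom)
    (hQ : Nat.card Q = 9196830720) {x : Q} (hx : orderOf x = 11) :
    Nat.card (centralizer ({x} : Set Q)) = 11 ∧
      Nat.card (normalizer ((zpowers x : Subgroup Q) : Set Q)) = 55 := by
  haveI : Fact (Nat.Prime 11) := ⟨by norm_num⟩
  have hq : H.q = 2 := by
    have h := H.card_field
    rw [hF] at h
    nlinarith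
  have : Finite V := Module.finite_of_finite F
  have hfin : Finite H.SIsom :=
    Finite.of_injective (fun g : H.SIsom => (g.1.1 : V → V)) fun g h e => H.sisom_ext (congrFun e)
  have : Nontrivial V := Module.nontrivial_of_finrank_pos (R := F) (by omega)
  have hcard : Nat.card H.SIsom = 27590492160 := by
    have h := H.card_SIsom_mul
    rw [hd, hq] at h
    norm_num [cardGUFormula, Finset.prod_range_succ, Nat.even_iff] at h
    omega
  have hk : Nat.card π.ker = 3 := by
    have h := π.ker.card_mul_index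
    rw [index_ker, MonoidHom.range_eq_top.2 hsurj, card_top, hQ, hcard] at h
    omega
  obtain ⟨u, hu⟩ := hsurj x
  have hu33 : u ^ 33 = 1 := by
    have h : u ^ 11 ∈ π.ker := by rw [MonoidHom.mem_ker, map_pow, hu, ← hx, pow_orderOf_eq_one]
    rw [show 33 = 11 * 3 by norm_num, pow_mul]
    exact orderOf_dvd_iff_pow_eq_one.1 (hk ▸ π.ker.orderOf_dvd_natCard h)
  have hw : π (u ^ 12) = x := by
    rw [map_pow, hu, show 12 = 11 + 1 by norm_num, pow_succ, ← hx, pow_orderOf_eq_one, one_mul]
  have hwo : orderOf (u ^ 12) = 11 := by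
    refine orderOf_eq_prime (by rw [← pow_mul, show 12 * 11 = 33 * 4 by norm_num, pow_mul, hu33, one_pow]) fun h => ?_
    rw [h, map_one] at hw
    rw [← hw, orderOf_one] at hx
    norm_num at hx
  let E : Cfsg.Lib.Known.MinIndexSU.Elev H := ⟨u ^ 12, hwo, hq, hd⟩
  have hC := E.card_centralizer
  rw [centralizer_zpowers] at hC
  have hC' := card_subgroup_dvd_card (centralizer ({u ^ 12} : Set H.SIsom))
  rw [hcard] at hC'
  have h99 : Nat.card (centralizer ({u ^ 12} : Set H.SIsom)) ∣ 3 * 33 := by
    have := Nat.dvd_gcd hC hC'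
    norm_num at this ⊢
    exact this
  set f : (⊤ : Subgroup H.SIsom) →* Q := π.comp (⊤ : Subgroup H.SIsom).subtype with hf
  have hfsurj : Function.Surjective f := fun q => by
    obtain ⟨g, hg⟩ := hsurj q
    exact ⟨⟨g, mem_top g⟩, hg⟩
  have hfker : f.ker = π.ker.subgroupOf ⊤ := rfl
  have hfk : Nat.card f.ker = 3 := by
    rw [hfker, Nat.card_congr (subgroupOfEquivOfLe le_top).toEquiv, hk]
  obtain ⟨-, hc, -⟩ := lift_counts (⊤ : Subgroup H.SIsom) f hfsurj
    (fun g hg => mem_center_iff.2 fun t => Subtype.ext (mem_center_iff.1 (hker (hfker ▸ hg : g ∈ π.ker.subgroupOf ⊤)) t))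
    (by rw [hfk]; norm_num) (mem_top (u ^ 12)) hwo
  rw [top_inf_eq, hfk, show f ⟨u ^ 12, mem_top _⟩ = x from hw] at hc
  rw [hc] at h99
  have h33 : Nat.card (centralizer ({x} : Set Q)) ∣ 33 := Nat.dvd_of_mul_dvd_mul_left (by norm_num) h99
  have h11 : 11 ∣ Nat.card (centralizer ({x} : Set Q)) :=
    hx ▸ (centralizer ({x} : Set Q)).orderOf_dvd_natCard (mem_centralizer_singleton_iff.2 rfl)
  obtain ⟨r, hr, hN⟩ := normalizer_eq_mul (x := x) hx
  have hmod := index_normalizer_mod (G := Q) (by rw [hQ]; norm_num) hx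
  have hmul := (normalizer ((zpowers x : Subgroup Q) : Set Q)).card_mul_index
  rw [hQ, hN] at hmul
  rw [hN]
  set c := Nat.card (centralizer ({x} : Set Q))
  have hc' : c = 11 ∨ c = 33 := by
    have h := Nat.mem_divisors.2 ⟨h33, by norm_num⟩
    rw [show Nat.divisors 33 = {1, 3, 11, 33} from by decide +kernel] at h
    simp only [Finset.mem_insert, Finset.mem_singleton] at h
    omega
  have hr' : r = 1 ∨ r = 2 ∨ r = 5 ∨ r = 10 := by
    have h := Nat.mem_divisors.2 ⟨hr, by norm_num⟩
    rw [show Nat.divisors 10 = {1, 2, 5, 10} from by decide +kernel] at h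
    simp only [Finset.mem_insert, Finset.mem_singleton] at h
    omega
  rcases hc' with e | e <;> rcases hr' with e' | e' | e' | e' <;> rw [e, e'] at hmul ⊢ <;> omega

end Cfsg.Lib.ElevenNorm
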