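import Cfsg.Agent.ThreeTransposition.M22Count.Centraliser
import Cfsg.Agent.ThreeTransposition.ElevenNorm.Unitary
import Cfsg.Agent.ThreeTransposition.ElevenNorm.Fixed

/-!
Elements of order eleven in groups of type M(22): each commutes with exactly one member; centraliser and normaliser.
-/

set_option autoImplicit false
set_option linter.unusedSectionVars false

namespace Cfsg.Lib.ThreeTr

open Cfsg Subgroup Cfsg.Lib.ElevenNorm

universe u

variable {G : Type u} [Group G] [Finite G] {D : Set G}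

namespace M22

variable (h : M22 D)
include h

/-- An element of order eleven commuting with a member. -/
theorem eleven_at {d : G} (hd : d ∈ D) {x : G} (hxd : Commute x d) (hx : orderOf x = 11) :
    Nat.card ↥(centralizer ({d} : Set G) ⊓ centralizer ({x} : Set G)) = 22 ∧
    Nat.card ↥(centralizer ({d} : Set G) ⊓ normalizer ((zpowers x : Subgroup G) : Set G)) = 110 ∧
    ∀ y ∈ perp D d, ¬ Commute x y := by
  rw [h.centralizer_eq hd]
  set K := closure (perp D d) with hK
  have hxK : x ∈ K := by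
    rw [hK, ← h.centralizer_eq hd, mem_centralizer_singleton_iff]
    exact hxd.eq
  obtain ⟨F, _, _, H, π, vec, hM⟩ : ∃ (F : Type) (_ : Field F) (_ : Fintype F)
      (H : Cfsg.Lib.Classical.HermSpace F (Fin 6 → F)) (π : H.SIsom →* K ⧸ center K) (vec : G → (Fin 6 → F)),
      IsModel D d H π vec := h.exists_model hd
  set f : K →* K ⧸ center K := QuotientGroup.mk' (center K)
  have hfs : Function.Surjective f := QuotientGroup.mk'_surjective _
  have hker : f.ker = center K := QuotientGroup.ker_mk' _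
  have hk : Nat.card f.ker = 2 := by rw [hker]; exact h.card_center_closure_perp hd
  obtain ⟨ho, hc, hn⟩ := lift_counts K f hfs hker.le (by rw [hk]; norm_num) hxK hx
  obtain ⟨hC, hN⟩ := psu_eleven hM.four (Module.finrank_fin_fun F) π hM.surj hM.ker.le (h.rich d hd).1 ho
  refine ⟨by rw [hc, hk, hC], by rw [hn, hk, hN], fun y hy hxy => ?_⟩
  have hyK : y ∈ K := subset_closure hy
  refine h.not_center hd (x := ⟨y, hyK⟩) hy ?_
  rw [← hker, MonoidHom.mem_ker]
  have hm : f ⟨y, hyK⟩ ∈ centralizer ({f ⟨x, hxK⟩} : Set (K ⧸ center K)) := by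
    rw [mem_centralizer_singleton_iff, ← map_mul, ← map_mul]
    exact congrArg f (Subtype.ext hxy.eq.symm)
  have h1 := (centralizer ({f ⟨x, hxK⟩} : Set (K ⧸ center K))).orderOf_dvd_natCard hm
  rw [hC] at h1
  have h2 : orderOf (f ⟨y, hyK⟩) ∣ 2 := orderOf_dvd_of_pow_eq_one (by
    rw [← map_pow, show (⟨y, hyK⟩ : K) ^ 2 = 1 from Subtype.ext (by
      push_cast; rw [sq]; exact sq_eq_one h.cls.1 hy.1), map_one])
  exact orderOf_eq_one_iff.1 (Nat.eq_one_of_dvd_coprimes (by norm_num : Nat.Coprime 11 2) h1 h2)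

theorem card_D : D.ncard = 3510 := by
  obtain ⟨-, d, hd, c, hc, hdc, -⟩ := h.type
  exact h.card_eq hd hc hdc

theorem not_dvd_121 : ¬ 121 ∣ Nat.card G := by
  obtain ⟨-, d, hd, -⟩ := h.type
  rw [h.card_group hd]
  norm_num

/-- Exactly one member commutes with an element of order eleven. -/
theorem eleven_unique {x : G} (hx : orderOf x = 11) : ∃ d ∈ D, Commute x d ∧ ∀ e ∈ D, Commute x e → e = d := by
  obtain ⟨d, hd, hxd⟩ := exists_fixed h.cls (by rw [h.card_D]; norm_num) hx
  refine ⟨d, hd, hxd, fun e he hxe => ?_⟩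
  obtain ⟨-, -, hno⟩ := h.eleven_at hd hxd hx
  by_contra hne
  by_cases hde : Commute d e
  · exact hno e ⟨he, hne, hde⟩ hxe
  · have hm := ncard_fixed_mod (perp D d ∩ perp D e) (fun y hy =>
      ⟨ElevenNorm.conj_mem_perp h.cls hxd y hy.1, ElevenNorm.conj_mem_perp h.cls hxe y hy.2⟩) hx
    rw [h.mu_eq hd he hde] at hm
    obtain ⟨f, hf, hxf⟩ := Set.nonempty_of_ncard_ne_zero
      (s := {y : G | y ∈ perp D d ∩ perp D e ∧ Commute x y}) fun h0 => by rw [h0] at hm; norm_num at hm
    exact hno f hf.1 hxf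

/-- The whole centraliser and normaliser. -/
theorem eleven_global {x : G} (hx : orderOf x = 11) : ∃ d ∈ D, Commute x d ∧ (∀ e ∈ D, Commute x e → e = d) ∧
    normalizer ((zpowers x : Subgroup G) : Set G) ≤ centralizer ({d} : Set G) ∧
    Nat.card (centralizer ({x} : Set G)) = 22 ∧
    Nat.card (normalizer ((zpowers x : Subgroup G) : Set G)) = 110 := by
  obtain ⟨d, hd, hxd, huniq⟩ := h.eleven_unique hx
  obtain ⟨hC, hN, -⟩ := h.eleven_at hd hxd hx
  have hle := normalizer_le_centralizer_of_unique (fun g _ he => conj_mem h.cls g he) hd hxd huniq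
  rw [inf_eq_right.2 ((centralizer_le_normalizer_zpowers x).trans hle)] at hC
  rw [inf_eq_right.2 hle] at hN
  exact ⟨d, hd, hxd, huniq, hle, hC, hN⟩

end M22

end Cfsg.Lib.ThreeTr
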