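import Cfsg.Agent.ThreeTransposition.M23Count.M23
import Cfsg.Agent.ThreeTransposition.ElevenNorm.TypeM22

/-!
Elements of order eleven in groups of type M(23): exactly two members commute with them.
-/

set_option autoImplicit false
set_option linter.unusedSectionVars false

namespace Cfsg.Lib.ThreeTr

open Cfsg Subgroup Cfsg.Lib.ElevenNorm

universe u

variable {G : Type u} [Group G] [Finite G] {D : Set G}

namespace M23

variable (h : M23 D)
include h

theorem twinFree : TwinFree D := h.solid.full.tower.twin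

theorem not_dvd_121 : ¬ 121 ∣ Nat.card G := by
  rw [h.card_group]
  norm_num

/-- At the distinguished member. -/
theorem eleven_dist {d : G} (hd : d ∈ D) (hQ : M22 (descSet D d)) {x : G} (hxd : Commute x d) (hx : orderOf x = 11) :
    ∃ b ∈ perp D d, Commute x b ∧ (∀ y ∈ perp D d, Commute x y → y = b) ∧
      Nat.card ↥(centralizer ({d} : Set G) ⊓ centralizer ({x} : Set G)) = 44 ∧
      Nat.card ↥(centralizer ({d} : Set G) ⊓ normalizer ((zpowers x : Subgroup G) : Set G)) = 220 := by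
  rw [h.solid.centralizer_eq hd]
  set K := closure (perp D d) with hK
  have hxK : x ∈ K := by
    rw [hK, ← h.solid.centralizer_eq hd, mem_centralizer_singleton_iff]
    exact hxd.eq
  set f : K →* K ⧸ center K := QuotientGroup.mk' (center K)
  have hfs : Function.Surjective f := QuotientGroup.mk'_surjective _
  have hker : f.ker = center K := QuotientGroup.ker_mk' _
  have hk : Nat.card f.ker = 2 := by rw [hker]; exact h.solid.card_center_closure_perp hd
  obtain ⟨ho, hc, hn⟩ := lift_counts K f hfs hker.le (by rw [hk]; norm_num) hxK hx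
  obtain ⟨e, ⟨b, hb, rfl⟩, hxb, huniq, -, hC, hN⟩ := hQ.eleven_global ho
  refine ⟨b, hb, ?_, fun y hy hxy => ?_, by rw [hc, hk, hC], by rw [hn, hk, hN]⟩
  · have hm : ((⟨x, hxK⟩ * b * ⟨x, hxK⟩⁻¹ : K) : G) ∈ perp D d :=
      ElevenNorm.conj_mem_perp h.cls hxd b hb
    refine mul_inv_eq_iff_eq_mul.1 (desc_mk_inj h.cls h.twinFree hd hm hb ?_)
    rw [QuotientGroup.mk_mul, QuotientGroup.mk_mul, QuotientGroup.mk_inv]
    exact mul_inv_eq_iff_eq_mul.2 hxb.eq
  · exact desc_mk_inj h.cls h.twinFree hd (x := ⟨y, subset_closure hy⟩) hy hb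
      (huniq _ ⟨_, hy, rfl⟩ ((show Commute (⟨x, hxK⟩ : K) ⟨y, subset_closure hy⟩ from Subtype.ext hxy.eq).map f))

theorem eleven_at {p : G} (hp : p ∈ D) {x : G} (hxp : Commute x p) (hx : orderOf x = 11) :
    ∃ b ∈ perp D p, Commute x b ∧ (∀ y ∈ perp D p, Commute x y → y = b) ∧
      Nat.card ↥(centralizer ({p} : Set G) ⊓ centralizer ({x} : Set G)) = 44 ∧
      Nat.card ↥(centralizer ({p} : Set G) ⊓ normalizer ((zpowers x : Subgroup G) : Set G)) = 220 := by
  obtain ⟨d, hd, hQ⟩ := h.descended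
  obtain ⟨g, rfl⟩ := exists_conj h.cls hd hp
  set α : G ≃* G := MulAut.conj g
  obtain ⟨x, rfl⟩ := α.surjective x
  rw [MulEquiv.orderOf_eq] at hx
  have hxd : Commute x d := (conj_commute_iff g x d).1 hxp
  obtain ⟨b, hb, hxb, huniq, hC, hN⟩ := h.eleven_dist hd hQ hxd hx
  refine ⟨α b, ?_, (conj_commute_iff g x b).2 hxb, fun y hy hxy => ?_, ?_, ?_⟩
  · rw [← conj_image_perp h.cls g d]
    exact ⟨b, hb, rfl⟩
  · rw [← conj_image_perp h.cls g d] at hy
    obtain ⟨w, hw, rfl⟩ := hy
    rw [huniq w hw ((conj_commute_iff g x w).1 hxy)]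
    rfl
  · rw [← hC, ← card_map_of_injective (K := centralizer ({d} : Set G) ⊓ centralizer ({x} : Set G))
      (f := α.toMonoidHom) α.injective, map_inf _ _ _ α.injective, map_centralizer_singleton,
      map_centralizer_singleton]
    rfl
  · rw [← hN, ← card_map_of_injective (K := centralizer ({d} : Set G) ⊓ normalizer ((zpowers x : Subgroup G) : Set G))
      (f := α.toMonoidHom) α.injective, map_inf _ _ _ α.injective, map_centralizer_singleton,
      map_normalizer_zpowers]
    rfl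

/-- Exactly two members commute with an element of order eleven. -/
theorem eleven_pair {x : G} (hx : orderOf x = 11) : ∃ d ∈ D, ∃ b ∈ perp D d, Commute x d ∧ Commute x b ∧
    ∀ e ∈ D, Commute x e → e = d ∨ e = b := by
  obtain ⟨d, hd, hxd⟩ := exists_fixed h.cls (by rw [h.solid.full.card]; norm_num) hx
  obtain ⟨b, hb, hxb, huniq, -⟩ := h.eleven_at hd hxd hx
  refine ⟨d, hd, b, hb, hxd, hxb, fun e he hxe => ?_⟩
  by_cases hde : Commute d e
  · by_cases hne : e = d
    · exact Or.inl hne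
    · exact Or.inr (huniq e ⟨he, hne, hde⟩ hxe)
  exfalso
  have hm := ncard_fixed_mod (perp D d ∩ perp D e) (fun y hy =>
    ⟨ElevenNorm.conj_mem_perp h.cls hxd y hy.1, ElevenNorm.conj_mem_perp h.cls hxe y hy.2⟩) hx
  rw [h.solid.full.nonadj d hd e he hde] at hm
  obtain ⟨f, hf, hxf⟩ := Set.nonempty_of_ncard_ne_zero
    (s := {y : G | y ∈ perp D d ∩ perp D e ∧ Commute x y}) fun h0 => by rw [h0] at hm; norm_num at hm
  obtain ⟨c, -, -, huf, -⟩ := h.eleven_at hf.1.1 hxf hx
  refine hde ?_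
  rw [huf d ⟨hd, hf.1.2.1.symm, hf.1.2.2.symm⟩ hxd, huf e ⟨he, hf.2.2.1.symm, hf.2.2.2.symm⟩ hxe]

theorem eleven_swap {d b : G} (hd : d ∈ D) (hb : b ∈ perp D d) {x : G} (hxd : Commute x d) (hxb : Commute x b)
    (hx : orderOf x = 11) :
    ∃ n ∈ normalizer ((zpowers x : Subgroup G) : Set G), n * d * n⁻¹ = b ∧ n * b * n⁻¹ = d := by
  obtain ⟨d₀, hd₀, b₀, hb₀, -, -, hall₀⟩ := h.eleven_pair hx
  have hall : ∀ e ∈ D, Commute x e → e = d ∨ e = b := by
    intro e he hxe
    rcases hall₀ d hd hxd with e1 | e1 <;> rcases hall₀ b hb.1 hxb with e2 | e2 <;>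
      rcases hall₀ e he hxe with e3 | e3
    all_goals first
      | exact Or.inl (e3.trans e1.symm)
      | exact Or.inr (e3.trans e2.symm)
      | exact absurd (e2.trans e1.symm) hb.2.1
  obtain ⟨-, -, -, -, -, hN⟩ := h.eleven_at hd hxd hx
  set N := normalizer ((zpowers x : Subgroup G) : Set G) with hNdef
  have hperm : ∀ g ∈ N, ∀ e ∈ D, Commute x e → g * e * g⁻¹ = d ∨ g * e * g⁻¹ = b := fun g hg e he hxe =>
    hall _ (conj_mem h.cls g he) (commute_conj_of_mem_normalizer hg hxe)
  obtain ⟨n, hn, hnd⟩ : ∃ n ∈ N, ¬ Commute n d := by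
    by_contra hcon
    push Not at hcon
    have hle : N ≤ centralizer ({d} : Set G) := fun g hg => mem_centralizer_singleton_iff.2 (hcon g hg).eq
    rw [inf_eq_right.2 hle] at hN
    have hmod := index_normalizer_mod h.not_dvd_121 hx
    have hmul := N.card_mul_index
    rw [hN, h.card_group] at hmul
    rw [← hNdef] at hmod
    omega
  have hnd' : n * d * n⁻¹ = b := (hperm n hn d hd hxd).resolve_left fun e => hnd (mul_inv_eq_iff_eq_mul.1 e)
  exact ⟨n, hn, hnd', (hperm n hn b hb.1 hxb).resolve_right fun e =>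
    hb.2.1 (mul_left_cancel (mul_right_cancel (e.trans hnd'.symm)))⟩

end M23

end Cfsg.Lib.ThreeTr
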