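import Cfsg.Agent.ThreeTransposition.ElevenNorm.TypeM23

/-!
Elements of order eleven above a class of type M(23): exactly three members commute with them.
-/

set_option autoImplicit false
set_option linter.unusedSectionVars false

namespace Cfsg.Lib.ThreeTr

open Cfsg Subgroup Cfsg.Lib.ElevenNorm

universe u

variable {G : Type u} [Group G] [Finite G] {D : Set G}

/-- What is used of a class of type M(24). -/
structure OverM23 (D : Set G) (N k l l' m m' m'' : ℕ) : Prop where
  solid : Solid D N k l l' m m' m''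
  descended : ∃ d ∈ D, M23 (descSet D d)
  card_mod : N % 11 ≠ 0
  nonadj_mod : m % 11 ≠ 0
  sparse : l' + 1 < l

namespace OverM23

variable {N k l l' m m' m'' : ℕ} (h : OverM23 D N k l l' m m' m'')
include h

theorem cls : IsThreeTranspositionClass D := h.solid.full.cls

theorem twin : TwinFree D := h.solid.full.tower.twin

/-- At the distinguished member. -/
theorem eleven_dist {d : G} (hd : d ∈ D) (hQ : M23 (descSet D d)) {x : G} (hxd : Commute x d) (hx : orderOf x = 11) :
    ∃ b ∈ perp D d, ∃ c ∈ perp D d, b ≠ c ∧ Commute b c ∧ Commute x b ∧ Commute x c ∧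
      (∀ y ∈ perp D d, Commute x y → y = b ∨ y = c) ∧
      Nat.card ↥(centralizer ({d} : Set G) ⊓ (centralizer ({b} : Set G) ⊓ centralizer ({x} : Set G))) = 88 ∧
      Nat.card ↥(centralizer ({d} : Set G) ⊓ (centralizer ({b} : Set G) ⊓
        normalizer ((zpowers x : Subgroup G) : Set G))) = 440 ∧
      ∃ n ∈ normalizer ((zpowers x : Subgroup G) : Set G), Commute n d ∧ n * b * n⁻¹ = c ∧ n * c * n⁻¹ = b := by
  rw [h.solid.centralizer_eq hd]
  set K := closure (perp D d) with hK
  have hxK : x ∈ K := by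
    rw [hK, ← h.solid.centralizer_eq hd, mem_centralizer_singleton_iff]
    exact hxd.eq
  set f : K →* K ⧸ center K := QuotientGroup.mk' (center K)
  have hfs : Function.Surjective f := QuotientGroup.mk'_surjective _
  have hker : f.ker = center K := QuotientGroup.ker_mk' _
  have hk : Nat.card f.ker = 2 := by rw [hker]; exact h.solid.card_center_closure_perp hd
  obtain ⟨ho, -, -⟩ := lift_counts K f hfs hker.le (by rw [hk]; norm_num) hxK hx
  obtain ⟨q, ⟨b, hb, rfl⟩, r, hr, hxb, hxc, hall⟩ := hQ.eleven_pair ho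
  obtain ⟨c, hc, rfl⟩ := hr.1
  obtain ⟨-, -, -, -, hC, hN⟩ := hQ.eleven_at (p := (QuotientGroup.mk b : K ⧸ center K)) ⟨b, hb, rfl⟩ hxb ho
  obtain ⟨n, hn, hnb, hnc⟩ := hQ.eleven_swap (d := (QuotientGroup.mk b : K ⧸ center K)) ⟨b, hb, rfl⟩ hr hxb hxc ho
  obtain ⟨n, rfl⟩ := hfs n
  have conj_eq : ∀ (g : K) (u v : K), (u : G) ∈ perp D d → (v : G) ∈ perp D d →
      (QuotientGroup.mk g : K ⧸ center K) * QuotientGroup.mk u * (QuotientGroup.mk g)⁻¹ = QuotientGroup.mk v →
      (g : G) * u * (g : G)⁻¹ = v := by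
    intro g u v hu hv e
    have hm : ((g * u * g⁻¹ : K) : G) ∈ perp D d :=
      ElevenNorm.conj_mem_perp h.cls (closure_perp_commute g.2) u hu
    exact desc_mk_inj h.cls h.twin hd hm hv (by rw [QuotientGroup.mk_mul, QuotientGroup.mk_mul, QuotientGroup.mk_inv]; exact e)
  set X : K := ⟨x, hxK⟩
  have hXb : Commute x b := mul_inv_eq_iff_eq_mul.1 (conj_eq X b b hb hb (mul_inv_eq_iff_eq_mul.2 hxb.eq))
  have hXc : Commute x c := mul_inv_eq_iff_eq_mul.1 (conj_eq X c c hc hc (mul_inv_eq_iff_eq_mul.2 hxc.eq))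
  have hbc : Commute (b : G) c := (desc_commute_iff h.cls h.twin hd hb hc).1 hr.2.2
  have hne : (b : G) ≠ c := fun e => hr.2.1 (congrArg QuotientGroup.mk (Subtype.ext e : b = c)).symm
  have hT : (centralizer ({(QuotientGroup.mk b : K ⧸ center K)} : Set (K ⧸ center K))).comap f =
      (centralizer ({(b : G)} : Set G)).subgroupOf K := by
    ext g
    rw [mem_comap, mem_subgroupOf, mem_centralizer_singleton_iff, mem_centralizer_singleton_iff]
    constructor
    · intro e
      exact mul_inv_eq_iff_eq_mul.1 (conj_eq g b b hb hb (mul_inv_eq_iff_eq_mul.2 e))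
    · intro e
      exact congrArg f (show g * b = b * g from Subtype.ext e)
  obtain ⟨-, h88, h440⟩ := lift_counts_in K f hfs hker.le (by rw [hk]; norm_num) hxK hx _ _ hT
  refine ⟨b, hb, c, hc, hne, hbc, hXb, hXc, fun y hy hxy => ?_, ?_, ?_, n, ?_, closure_perp_commute n.2,
    conj_eq n b c hb hc hnb, conj_eq n c b hc hb hnc⟩
  · have hm : Commute (f X) (f ⟨y, subset_closure hy⟩) :=
      (show Commute X ⟨y, subset_closure hy⟩ from Subtype.ext hxy.eq).map f
    rcases hall _ ⟨_, hy, rfl⟩ hm with e | e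
    · exact Or.inl (desc_mk_inj h.cls h.twin hd (x := ⟨y, subset_closure hy⟩) hy hb e)
    · exact Or.inr (desc_mk_inj h.cls h.twin hd (x := ⟨y, subset_closure hy⟩) hy hc e)
  · rw [h88, hk, hC]
  · rw [h440, hk, hN]
  · obtain ⟨j, hj⟩ := mem_zpowers_iff.1 (mem_normalizer_zpowers.1 hn)
    have e := eq_pow_of_image f hker.le (by rw [hk]; norm_num) (y := X) (Subtype.ext (by
      push_cast
      rw [← hx, pow_orderOf_eq_one])) n j (by rw [map_mul, map_mul, map_inv, map_zpow, ← hj])
    refine mem_normalizer_zpowers.2 ⟨j, ?_⟩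
    simpa [X] using (congrArg Subtype.val e).symm

theorem eleven_at {p : G} (hp : p ∈ D) {x : G} (hxp : Commute x p) (hx : orderOf x = 11) :
    ∃ b ∈ perp D p, ∃ c ∈ perp D p, b ≠ c ∧ Commute b c ∧ Commute x b ∧ Commute x c ∧
      (∀ y ∈ perp D p, Commute x y → y = b ∨ y = c) ∧
      Nat.card ↥(centralizer ({p} : Set G) ⊓ (centralizer ({b} : Set G) ⊓ centralizer ({x} : Set G))) = 88 ∧
      Nat.card ↥(centralizer ({p} : Set G) ⊓ (centralizer ({b} : Set G) ⊓
        normalizer ((zpowers x : Subgroup G) : Set G))) = 440 ∧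
      ∃ n ∈ normalizer ((zpowers x : Subgroup G) : Set G), Commute n p ∧ n * b * n⁻¹ = c ∧ n * c * n⁻¹ = b := by
  obtain ⟨d, hd, hQ⟩ := h.descended
  obtain ⟨g, rfl⟩ := exists_conj h.cls hd hp
  set α : G ≃* G := MulAut.conj g
  obtain ⟨x, rfl⟩ := α.surjective x
  rw [MulEquiv.orderOf_eq] at hx
  have hxd : Commute x d := (conj_commute_iff g x d).1 hxp
  obtain ⟨b, hb, c, hc, hne, hbc, hxb, hxc, hall, hC, hN, n, hn, hnd, hnb, hnc⟩ := h.eleven_dist hd hQ hxd hx
  have hperp : ∀ y ∈ perp D d, α y ∈ perp D (g * d * g⁻¹) := fun y hy => by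
    rw [← conj_image_perp h.cls g d]
    exact ⟨y, hy, rfl⟩
  refine ⟨α b, hperp b hb, α c, hperp c hc, fun e => hne (α.injective e), hbc.map α, hxb.map α, hxc.map α,
    fun y hy hxy => ?_, ?_, ?_, α n, ?_, hnd.map α, by simp only [← map_inv, ← map_mul, hnb],
    by simp only [← map_inv, ← map_mul, hnc]⟩
  · rw [← conj_image_perp h.cls g d] at hy
    obtain ⟨w, hw, rfl⟩ := hy
    rcases hall w hw ((conj_commute_iff g x w).1 hxy) with e | e <;> rw [e]
    exacts [Or.inl rfl, Or.inr rfl]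
  · rw [← hC, ← card_map_of_injective (K := centralizer ({d} : Set G) ⊓ (centralizer ({b} : Set G) ⊓
      centralizer ({x} : Set G))) (f := α.toMonoidHom) α.injective, map_inf _ _ _ α.injective,
      map_inf _ _ _ α.injective, map_centralizer_singleton, map_centralizer_singleton, map_centralizer_singleton]
    rfl
  · rw [← hN, ← card_map_of_injective (K := centralizer ({d} : Set G) ⊓ (centralizer ({b} : Set G) ⊓
      normalizer ((zpowers x : Subgroup G) : Set G))) (f := α.toMonoidHom) α.injective, map_inf _ _ _ α.injective,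
      map_inf _ _ _ α.injective, map_centralizer_singleton, map_centralizer_singleton, map_normalizer_zpowers]
    rfl
  · rw [← map_normalizer_zpowers]
    exact mem_map_of_mem _ hn

/-- Exactly three members commute with an element of order eleven. -/
theorem eleven_triple {x : G} (hx : orderOf x = 11) : ∃ d ∈ D, ∃ b ∈ perp D d, ∃ c ∈ perp D d, b ≠ c ∧ Commute b c ∧
    Commute x d ∧ Commute x b ∧ Commute x c ∧ ∀ e ∈ D, Commute x e → e = d ∨ e = b ∨ e = c := by
  obtain ⟨d, hd, hxd⟩ := exists_fixed h.cls (by rw [h.solid.full.card]; exact h.card_mod) hx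
  obtain ⟨b, hb, c, hc, hne, hbc, hxb, hxc, huniq, -⟩ := h.eleven_at hd hxd hx
  refine ⟨d, hd, b, hb, c, hc, hne, hbc, hxd, hxb, hxc, fun e he hxe => ?_⟩
  by_cases hde : Commute d e
  · by_cases hed : e = d
    · exact Or.inl hed
    · exact Or.inr (huniq e ⟨he, hed, hde⟩ hxe)
  exfalso
  have hm := ncard_fixed_mod (perp D d ∩ perp D e) (fun y hy =>
    ⟨ElevenNorm.conj_mem_perp h.cls hxd y hy.1, ElevenNorm.conj_mem_perp h.cls hxe y hy.2⟩) hx
  rw [h.solid.full.nonadj d hd e he hde] at hm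
  obtain ⟨f, hf, hxf⟩ := Set.nonempty_of_ncard_ne_zero
    (s := {y : G | y ∈ perp D d ∩ perp D e ∧ Commute x y}) fun h0 => by
      rw [h0] at hm
      exact h.nonadj_mod (by omega)
  obtain ⟨b', -, c', -, -, hbc', -, -, huf, -⟩ := h.eleven_at hf.1.1 hxf hx
  refine hde ?_
  rcases huf d ⟨hd, hf.1.2.1.symm, hf.1.2.2.symm⟩ hxd with e1 | e1 <;>
    rcases huf e ⟨he, hf.2.2.1.symm, hf.2.2.2.symm⟩ hxe with e2 | e2 <;> rw [e1, e2]
  exacts [hbc', hbc'.symm]

theorem not_dvd_121 (hN : ¬ 11 ∣ N) : ¬ 121 ∣ Nat.card G := by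
  obtain ⟨d, hd, hQ⟩ := h.descended
  rw [h.solid.card_group hd, hQ.card_group]
  intro h121
  have : 121 ∣ N * 11 * (31671 * (3510 * 18393661440 * 2) * 2 / 11) := by
    rw [mul_assoc]; exact h121.trans (dvd_of_eq (by norm_num))
  rw [show 121 = 11 * 11 by norm_num, mul_comm N 11, mul_assoc] at this
  have h2 := Nat.dvd_of_mul_dvd_mul_left (by norm_num) this
  rcases (Nat.Prime.dvd_mul (by norm_num : Nat.Prime 11)).1 h2 with h3 | h3
  · exact hN h3
  · norm_num at h3

/-- The third member of a commuting triple is not generated by the other two. -/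
theorem not_mem_pair {d b c : G} (hd : d ∈ D) (hb : b ∈ perp D d) (hc : c ∈ perp D d) (hne : b ≠ c)
    (hbc : Commute b c) : c ∉ closure ({d, b} : Set G) := by
  intro hmem
  have hcint : c ∈ perp D d ∩ perp D b := ⟨hc, hc.1, hne.symm, hbc⟩
  have hsub : (perp D d ∩ perp D b) \ {c} ⊆ perp D d ∩ perp D b ∩ perp D c := by
    rintro e ⟨he, hec⟩
    refine ⟨he, he.1.1, hec, ?_⟩
    have hle : closure ({d, b} : Set G) ≤ centralizer ({e} : Set G) := by
      rw [closure_le]
      rintro y (rfl | rfl)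
      · exact mem_centralizer_singleton_iff.2 he.1.2.2.eq
      · exact mem_centralizer_singleton_iff.2 he.2.2.2.eq
    exact mem_centralizer_singleton_iff.1 (hle hmem)
  have h1 := Set.ncard_le_ncard hsub (Set.toFinite _)
  rw [Set.ncard_sdiff_singleton_of_mem hcint, h.solid.full.tower.adj d hd b hb,
    h.solid.full.tower.tri_adj d hd b hb c hcint] at h1
  have := h.sparse
  omega

/-- The normaliser of a subgroup of order eleven. -/
theorem eleven_normalizer {B : Subgroup G} (hB : Nat.card B = 11) :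
    (D ∩ (centralizer ((B : Subgroup G) : Set G) : Set G)).ncard = 3 ∧
    (∀ x ∈ D ∩ (centralizer ((B : Subgroup G) : Set G) : Set G),
      ∀ y ∈ D ∩ (centralizer ((B : Subgroup G) : Set G) : Set G), Commute x y) ∧
    (∀ σ : Equiv.Perm ↥(D ∩ (centralizer ((B : Subgroup G) : Set G) : Set G)),
      ∃ n ∈ normalizer ((B : Subgroup G) : Set G), ∀ x : ↥(D ∩ (centralizer ((B : Subgroup G) : Set G) : Set G)),
        n * (x : G) * n⁻¹ = ((σ x : ↥(D ∩ (centralizer ((B : Subgroup G) : Set G) : Set G))) : G)) ∧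
    Cfsg.IsElementaryAbelian 2 (closure (D ∩ (centralizer ((B : Subgroup G) : Set G) : Set G))) ∧
    Nat.card ↥(closure (D ∩ (centralizer ((B : Subgroup G) : Set G) : Set G))) = 8 ∧
    ∃ F : Subgroup G, Nat.card ↥F = 55 ∧ B ≤ F ∧ F ⊓ centralizer ((B : Subgroup G) : Set G) = B ∧
      F ⊓ closure (D ∩ (centralizer ((B : Subgroup G) : Set G) : Set G)) = ⊥ ∧
      (∀ x ∈ F, ∀ y ∈ closure (D ∩ (centralizer ((B : Subgroup G) : Set G) : Set G)), x * y = y * x) ∧
      F ⊔ closure (D ∩ (centralizer ((B : Subgroup G) : Set G) : Set G)) =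
        (normalizer ((B : Subgroup G) : Set G) ⊓
          centralizer (D ∩ (centralizer ((B : Subgroup G) : Set G) : Set G))) := by
  classical
  obtain ⟨x, hx, rfl⟩ := exists_gen hB
  obtain ⟨d, hd, b, hb, c, hc, hne, hbc, hxd, hxb, hxc, hall⟩ := h.eleven_triple hx
  set S := D ∩ (centralizer ((zpowers x : Subgroup G) : Set G) : Set G) with hSdef
  have hmemS : ∀ e, e ∈ S ↔ e ∈ D ∧ Commute x e := fun e => by
    rw [hSdef, Set.mem_inter_iff, SetLike.mem_coe, centralizer_zpowers, mem_centralizer_singleton_iff]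
    exact and_congr_right fun _ => ⟨fun he => he.symm, fun he => he.eq.symm⟩
  have hS : S = {c, d, b} := by
    ext e
    rw [hmemS]
    simp only [Set.mem_insert_iff, Set.mem_singleton_iff]
    constructor
    · rintro ⟨he, hxe⟩
      rcases hall e he hxe with r | r | r
      exacts [Or.inr (Or.inl r), Or.inr (Or.inr r), Or.inl r]
    · rintro (rfl | rfl | rfl)
      exacts [⟨hc.1, hxc⟩, ⟨hd, hxd⟩, ⟨hb.1, hxb⟩]
  have hcom : ∀ u ∈ S, ∀ v ∈ S, Commute u v := by
    rw [hS]
    rintro u (rfl | rfl | rfl) v (rfl | rfl | rfl)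
    all_goals first
      | exact Commute.refl _
      | exact hb.2.2
      | exact hb.2.2.symm
      | exact hc.2.2
      | exact hc.2.2.symm
      | exact hbc
      | exact hbc.symm
  have h3 : S.ncard = 3 := by
    rw [hS, Set.ncard_insert_of_notMem, Set.ncard_pair hb.2.1.symm]
    simp only [Set.mem_insert_iff, Set.mem_singleton_iff, not_or]
    exact ⟨hc.2.1, hne.symm⟩
  set N := normalizer ((zpowers x : Subgroup G) : Set G) with hNdef
  have hNS : ∀ g ∈ N, ∀ e ∈ S, g * e * g⁻¹ ∈ S := fun g hg e he =>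
    (hmemS _).2 ⟨conj_mem h.cls g ((hmemS e).1 he).1, commute_conj_of_mem_normalizer hg ((hmemS e).1 he).2⟩
  have hswap : ∀ u ∈ S, ∀ v ∈ S, u ≠ v → ∃ n ∈ N, n * u * n⁻¹ = v ∧ n * v * n⁻¹ = u ∧
      ∀ w ∈ S, w ≠ u → w ≠ v → n * w * n⁻¹ = w := by
    intro u hu v hv huv
    have hcnt : (S \ {u, v}).ncard = 1 := by
      rw [Set.ncard_sdiff (Set.insert_subset_iff.2 ⟨hu, Set.singleton_subset_iff.2 hv⟩), h3, Set.ncard_pair huv]
    obtain ⟨w, hw⟩ := Set.ncard_eq_one.1 hcnt
    obtain ⟨hwS, hwuv⟩ : w ∈ S \ {u, v} := hw ▸ rfl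
    simp only [Set.mem_insert_iff, Set.mem_singleton_iff, not_or] at hwuv
    obtain ⟨hw', hxw⟩ := (hmemS w).1 hwS
    obtain ⟨b', -, c', -, -, -, -, -, huw, -, -, n, hn, hnw, hnb, hnc⟩ := h.eleven_at hw' hxw hx
    have hu' := huw u ⟨((hmemS u).1 hu).1, fun e => hwuv.1 e.symm, hcom w hwS u hu⟩ ((hmemS u).1 hu).2
    have hv' := huw v ⟨((hmemS v).1 hv).1, fun e => hwuv.2 e.symm, hcom w hwS v hv⟩ ((hmemS v).1 hv).2
    refine ⟨n, hn, ?_, ?_, fun w' hw'' h1 h2 => ?_⟩
    · rcases hu' with rfl | rfl <;> rcases hv' with rfl | rfl <;> first | exact absurd rfl huv | assumption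
    · rcases hu' with rfl | rfl <;> rcases hv' with rfl | rfl <;> first | exact absurd rfl huv | assumption
    · have : w' ∈ S \ {u, v} := ⟨hw'', by simp [h1, h2]⟩
      rw [hw, Set.mem_singleton_iff] at this
      rw [this, hnw.eq, mul_inv_cancel_right]
  have hperm : ∀ σ : Equiv.Perm ↥S, ∃ n ∈ N, ∀ y : ↥S, n * (y : G) * n⁻¹ = ((σ y : ↥S) : G) := by
    intro σ
    induction σ using Equiv.Perm.swap_induction_on with
    | one => exact ⟨1, one_mem _, fun y => by simp⟩
    | swap_mul σ u v huv ih =>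
      obtain ⟨m, hm, hmσ⟩ := ih
      obtain ⟨n, hn, hnu, hnv, hnw⟩ := hswap u u.2 v v.2 fun e => huv (Subtype.ext e)
      refine ⟨n * m, mul_mem hn hm, fun y => ?_⟩
      rw [show n * m * (y : G) * (n * m)⁻¹ = n * (m * y * m⁻¹) * n⁻¹ by group, hmσ, Equiv.Perm.mul_apply]
      by_cases e1 : σ y = u
      · rw [e1, Equiv.swap_apply_left, hnu]
      by_cases e2 : σ y = v
      · rw [e2, Equiv.swap_apply_right, hnv]
      rw [Equiv.swap_apply_of_ne_of_ne e1 e2]
      exact hnw _ (σ y).2 (fun e => e1 (Subtype.ext e)) fun e => e2 (Subtype.ext e)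
  have ho : ∀ e ∈ S, e * e = 1 := fun e he => sq_eq_one h.cls.1 ((hmemS e).1 he).1
  set E := closure S with hEdef
  have hEC : ∀ e ∈ E, ∀ g : G, (∀ s ∈ S, Commute s g) → e * g = g * e := fun e he g hg =>
    mem_centralizer_singleton_iff.1
      ((closure_le (centralizer ({g} : Set G))).2 (fun s hs => mem_centralizer_singleton_iff.2 (hg s hs).eq) he)
  have hEab : ∀ e ∈ E, ∀ e' ∈ E, e * e' = e' * e := fun e he e' he' =>
    hEC e he e' fun s hs => (hEC e' he' s fun t ht => hcom t ht s hs).symm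
  have hE2 : Cfsg.IsElementaryAbelian 2 E := by
    refine ⟨⟨⟨fun a b => Subtype.ext (hEab a a.2 b b.2)⟩⟩, fun a ha => ?_⟩
    induction ha using closure_induction with
    | mem s hs => rw [sq]; exact ho s hs
    | one => exact one_pow 2
    | mul u v hu hv iu iv => rw [(show Commute u v from hEab u hu v hv).mul_pow, iu, iv, one_mul]
    | inv u _ iu => rw [inv_pow, iu, inv_one]
  have hE8 : Nat.card E = 8 := by
    rw [hEdef, hS, card_closure_insert (sq_eq_one h.cls.1 hc.1) ?_ (h.not_mem_pair hd hb hc hne hbc),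
      card_closure_pair (h.cls.1.1 d hd) (h.cls.1.1 b hb.1) hb.2.1.symm hb.2.2]
    rintro s (rfl | rfl)
    exacts [hc.2.2.symm, hbc.symm]
  obtain ⟨b', hb', c', hc', -, -, hxb', -, hun, hC, hNc, -⟩ := h.eleven_at hd hxd hx
  have hCS : N ⊓ centralizer S = centralizer ({d} : Set G) ⊓ (centralizer ({b'} : Set G) ⊓ N) := by
    refine le_antisymm (fun g hg => ?_) fun g hg => ⟨hg.2.2, ?_⟩
    · have hgc : ∀ s ∈ S, Commute g s := fun s hs => (mem_centralizer_iff.1 hg.2 s hs).symm
      exact ⟨mem_centralizer_singleton_iff.2 (hgc d ((hmemS d).2 ⟨hd, hxd⟩)).eq,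
        mem_centralizer_singleton_iff.2 (hgc b' ((hmemS b').2 ⟨hb'.1, hxb'⟩)).eq, hg.1⟩
    · refine mem_centralizer_iff.2 fun s hs => ?_
      have hgd : Commute g d := mem_centralizer_singleton_iff.1 hg.1
      have hgb : Commute g b' := mem_centralizer_singleton_iff.1 hg.2.1
      by_cases e1 : s = d
      · rw [e1]; exact hgd.eq.symm
      have hsD := (hmemS s).1 hs
      by_cases e2 : s = b'
      · rw [e2]; exact hgb.eq.symm
      -- the third member is fixed as well
      refine (mul_inv_eq_iff_eq_mul.1 (?_ : g * s * g⁻¹ = s)).symm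
      have hgs := (hmemS _).1 (hNS g hg.2.2 s hs)
      have hsd : Commute d s := hcom d ((hmemS d).2 ⟨hd, hxd⟩) s hs
      have hs' : s = c' := (hun s ⟨hsD.1, e1, hsd⟩ hsD.2).resolve_left e2
      have e' : g * d * g⁻¹ = d := by rw [hgd.eq, mul_inv_cancel_right]
      have hm : g * s * g⁻¹ ∈ perp D d := ElevenNorm.conj_mem_perp h.cls hgd s ⟨hsD.1, e1, hsd⟩
      refine ((hun _ hm hgs.2).resolve_left fun e => e2 ?_).trans hs'.symm
      rw [← mul_inv_eq_iff_eq_mul.2 hgb.eq] at e
      exact mul_left_cancel (mul_right_cancel e)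
  have hxN : x ∈ N ⊓ centralizer S := ⟨centralizer_le_normalizer_zpowers x (mem_centralizer_singleton_iff.2 rfl),
    mem_centralizer_iff.2 fun s hs => ((hmemS s).1 hs).2.eq.symm⟩
  have hEN : E ≤ N ⊓ centralizer S := by
    rw [hEdef, closure_le]
    exact fun s hs => ⟨centralizer_le_normalizer_zpowers x (mem_centralizer_singleton_iff.2 ((hmemS s).1 hs).2.symm.eq),
      mem_centralizer_iff.2 fun t ht => (hcom t ht s hs).eq⟩
  obtain ⟨F, h55, hXF, hFC, hFE, hFc, hsup⟩ := split_central hx E (N ⊓ centralizer S) hEN hxN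
    (fun e he n hn => hEC e he n fun s hs => mem_centralizer_iff.1 hn.2 s hs)
    (by rw [hE8]; norm_num) (by rw [hE8, hCS, hNc]) (by
      rw [hE8, hCS, inf_assoc, inf_assoc, inf_eq_right.2 (centralizer_le_normalizer_zpowers x), hC])
  exact ⟨h3, hcom, hperm, hE2, hE8, F, h55, hXF, hFC, hFE, hFc, hsup⟩

end OverM23

end Cfsg.Lib.ThreeTr
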